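import Groth.Agent.Koszul15.Basic
import Groth.Agent.FlatCxLib.Cls
import Mathlib.RingTheory.Ideal.AssociatedPrime.Finiteness

/-!
# Depth sensitivity of the Koszul complex
-/

universe u

open CategoryTheory CategoryTheory.Limits CochainComplex CochainComplex.HomComplex

namespace Groth.Agent.Koszul15

variable {A : Type u} [CommRing A]

local notation "K(" fs ", " M ")" => CohIII.koszulCx M fs

/-- Elements killed by the sequence give cycles in the lowest degree. -/
theorem exists_bot (M : ModuleCat.{u} A) :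
    ∀ (fs : List A) (n : ℤ), n = -(fs.length : ℤ) → ∃ ι : M →ₗ[A] K(fs, M).X n, Function.Injective ι ∧
      ∀ m : M, (∀ f ∈ fs, f • m = 0) → K(fs, M).d n (n + 1) (ι m) = 0 := by
  intro fs
  induction fs with
  | nil =>
    intro n hn
    obtain rfl : n = 0 := by simpa using hn
    refine ⟨(HomologicalComplex.singleObjXSelf (ComplexShape.up ℤ) 0 M).toLinearEquiv.symm.toLinearMap,
      LinearEquiv.injective _, fun m _ => ?_⟩
    have h0 : K(([] : List A), M).d 0 (0 + 1) = 0 := (isZero_X M [] (0 + 1) (by simp)).eq_of_tgt _ _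
    exact ConcreteCategory.congr_hom h0 _
  | cons f fs ih =>
    intro n hn
    obtain ⟨ι, hι, hd⟩ := ih (n + 1) (by rw [hn]; simp)
    let φ := f • 𝟙 K(fs, M)
    let inl := (mappingCone.inl φ).v (n + 1) n (by omega)
    refine ⟨inl.hom ∘ₗ ι, fun a b hab => hι ?_, fun m hm => ?_⟩
    · have e := mappingCone.inl_v_fst_v φ (n + 1) n rfl
      exact (ConcreteCategory.congr_hom e (ι a)).symm.trans ((congrArg (fun z => (mappingCone.fst φ).1.v n (n + 1) rfl z) hab).trans
        (ConcreteCategory.congr_hom e (ι b)))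
    · have e := mappingCone.inl_v_d φ (n + 1) n (n + 1 + 1) (by omega) (by omega)
      refine (ConcreteCategory.congr_hom e (ι m)).trans ?_
      have h1 : φ.f (n + 1) (ι m) = 0 := by
        show f • (ι m) = 0
        rw [← map_smul, hm f List.mem_cons_self, map_zero]
      have h2 : K(fs, M).d (n + 1) (n + 1 + 1) (ι m) = 0 := hd m fun g hg => hm g (List.mem_cons_of_mem _ hg)
      show (mappingCone.inr φ).f (n + 1) (φ.f (n + 1) (ι m)) -
        (mappingCone.inl φ).v (n + 1 + 1) (n + 1) (by omega) (K(fs, M).d (n + 1) (n + 1 + 1) (ι m)) = 0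
      rw [h1, h2, map_zero, map_zero, sub_zero]

/-- The bottom homology sees the elements killed by the sequence. -/
theorem eq_zero_of_isZero_bot (M : ModuleCat.{u} A) (fs : List A) (h : IsZero (K(fs, M).homology (-(fs.length : ℤ))))
    (m : M) (hm : ∀ f ∈ fs, f • m = 0) : m = 0 := by
  obtain ⟨ι, hι, hd⟩ := exists_bot M fs _ rfl
  have hk : (ComplexShape.up ℤ).next (-(fs.length : ℤ)) = -(fs.length : ℤ) + 1 := by simp
  have hi : (ComplexShape.up ℤ).prev (-(fs.length : ℤ)) = -(fs.length : ℤ) - 1 := by simp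
  obtain ⟨w, hw⟩ := (FlatCxLib.cls_eq_zero_iff hi hk (ι m) (hd m hm)).1
    (ModuleCat.subsingleton_of_isZero h |>.elim _ _)
  have := ModuleCat.subsingleton_of_isZero (isZero_X M fs (-(fs.length : ℤ) - 1) (by omega))
  apply hι
  rw [map_zero, ← hw, Subsingleton.elim w 0, map_zero]

/-- The short exact sequence of a nonzerodivisor, with the three Koszul facts we use. -/
theorem ses_facts (fs : List A) (M : ModuleCat.{u} A) (a : A) (ha : a ∈ Ideal.span {x | x ∈ fs})
    (hreg : IsSMulRegular M a) (q : ℤ) :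
    (IsZero (K(fs, ModuleCat.of A (QuotSMulTop a M)).homology q) → IsZero (K(fs, M).homology (q + 1))) ∧
      (IsZero (K(fs, M).homology q) → IsZero (K(fs, M).homology (q + 1)) →
        IsZero (K(fs, ModuleCat.of A (QuotSMulTop a M)).homology q)) := by
  let M' : ModuleCat.{u} A := ModuleCat.of A (QuotSMulTop a M)
  let π : M ⟶ M' := ModuleCat.ofHom (Y := QuotSMulTop a M) (Submodule.mkQ _)
  have hz : (a • 𝟙 M) ≫ π = 0 := ModuleCat.hom_ext (LinearMap.ext fun x =>
    (Submodule.Quotient.mk_eq_zero _).2 (Submodule.smul_mem_pointwise_smul x a ⊤ trivial))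
  have hS : (ShortComplex.mk _ _ hz).ShortExact :=
    { exact := (ShortComplex.ShortExact.moduleCat_exact_iff_function_exact _).2 fun x => by
        refine ⟨fun hx => ?_, ?_⟩
        · obtain ⟨y, -, hy⟩ := Submodule.mem_map.1 ((Submodule.Quotient.mk_eq_zero _).1 hx)
          exact ⟨y, hy⟩
        · rintro ⟨y, rfl⟩
          exact ConcreteCategory.congr_hom hz y
      mono_f := (ModuleCat.mono_iff_injective _).2 fun x y h => hreg h
      epi_g := (ModuleCat.epi_iff_surjective _).2 (Submodule.mkQ_surjective _) }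
  obtain ⟨hz', hK⟩ := kmap_shortExact _ _ hz hS fs
  have h0 : ∀ r, HomologicalComplex.homologyMap (kmap (a • 𝟙 M) fs) r = 0 := fun r => by
    obtain ⟨H⟩ := homotopy_of_mem M fs a ha
    rw [kmap_smul, H.homologyMap_eq, HomologicalComplex.homologyMap_zero]
  refine ⟨fun h => ?_, fun h h' => ?_⟩
  · have := (hK.homology_exact₁ q (q + 1) rfl).epi_f (h0 (q + 1))
    exact IsZero.of_epi (hK.δ q (q + 1) rfl) h
  · exact (hK.homology_exact₃ q (q + 1) rfl).isZero_X₂ (h.eq_zero_of_src _) (h'.eq_zero_of_tgt _)

/-- A regular sequence in the ideal kills low degree homology. -/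
theorem isZero_of_lt (fs : List A) : ∀ (rs : List A) (M : ModuleCat.{u} A),
    RingTheory.Sequence.IsWeaklyRegular M rs → (∀ r ∈ rs, r ∈ Ideal.span {x | x ∈ fs}) →
    ∀ q : ℤ, q < -(fs.length : ℤ) + rs.length → IsZero (K(fs, M).homology q) := by
  intro rs
  induction rs with
  | nil =>
    intro M _ _ q hq
    exact ShortComplex.isZero_homology_of_isZero_X₂ _ (isZero_X M fs q (by simp at hq; omega))
  | cons a rs ih =>
    intro M hreg hmem q hq
    rw [RingTheory.Sequence.isWeaklyRegular_cons_iff] at hreg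
    have h := (ses_facts fs M a (hmem a List.mem_cons_self) hreg.1 (q - 1)).1
      (ih _ hreg.2 (fun r hr => hmem r (List.mem_cons_of_mem _ hr)) _
        (by simp only [List.length_cons, Nat.cast_add, Nat.cast_one] at hq; omega))
    rwa [show q - 1 + 1 = q by omega] at h

/-- If the homology also vanishes in the next degree, nothing modulo the sequence is killed by the ideal. -/
theorem eq_zero_of_isZero (fs : List A) : ∀ (rs : List A) (M : ModuleCat.{u} A),
    RingTheory.Sequence.IsWeaklyRegular M rs → (∀ r ∈ rs, r ∈ Ideal.span {x | x ∈ fs}) →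
    IsZero (K(fs, M).homology (-(fs.length : ℤ) + rs.length)) →
    ∀ m : M ⧸ (Ideal.ofList rs • ⊤ : Submodule A M), (∀ f ∈ fs, f • m = 0) → m = 0 := by
  intro rs
  induction rs with
  | nil =>
    intro M _ _ h m hm
    obtain ⟨x, rfl⟩ := Submodule.Quotient.mk_surjective _ m
    have hbot : (Ideal.ofList ([] : List A) • ⊤ : Submodule A M) = ⊥ := by simp
    have key : ∀ y : M, (Submodule.Quotient.mk y : M ⧸ (Ideal.ofList ([] : List A) • ⊤ : Submodule A M)) = 0 →
        y = 0 := fun y hy => by
      rw [Submodule.Quotient.mk_eq_zero, hbot] at hy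
      exact (Submodule.mem_bot A).1 hy
    rw [eq_zero_of_isZero_bot M fs (by simpa using h) x fun f hf => key _ (hm f hf)]
    rfl
  | cons a rs ih =>
    intro M hreg hmem h m hm
    rw [RingTheory.Sequence.isWeaklyRegular_cons_iff] at hreg
    have hmem' : ∀ r ∈ rs, r ∈ Ideal.span {x | x ∈ fs} := fun r hr => hmem r (List.mem_cons_of_mem _ hr)
    have h1 : IsZero (K(fs, M).homology (-(fs.length : ℤ) + rs.length)) :=
      isZero_of_lt fs (a :: rs) M ((RingTheory.Sequence.isWeaklyRegular_cons_iff M a rs).2 hreg) hmem _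
        (by simp only [List.length_cons, Nat.cast_add, Nat.cast_one]; omega)
    have h2 : IsZero (K(fs, M).homology (-(fs.length : ℤ) + rs.length + 1)) := by
      convert h using 2
      simp only [List.length_cons, Nat.cast_add, Nat.cast_one]; omega
    let e := Submodule.quotOfListConsSMulTopEquivQuotSMulTopInner M a rs
    refine e.map_eq_zero_iff.1 (ih _ hreg.2 hmem' ((ses_facts fs M a (hmem a List.mem_cons_self) hreg.1 _).2 h1 h2)
      (e m) fun f hf => ?_)
    rw [← map_smul, hm f hf, map_zero]

/-- Without elements killed by an ideal there is a nonzerodivisor in it. -/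
theorem exists_isSMulRegular_mem [IsNoetherianRing A] (N : Type u) [AddCommGroup N] [Module A N]
    [Module.Finite A N] (I : Ideal A) (h : ∀ m : N, (∀ a ∈ I, a • m = 0) → m = 0) :
    ∃ a ∈ I, IsSMulRegular N a := by
  classical
  by_contra hc
  push Not at hc
  have hsub : (I : Set A) ⊆ ⋃ P ∈ associatedPrimes A N, (P : Set A) := fun a ha => by
    rw [biUnion_associatedPrimes_eq_compl_regular]
    exact hc a ha
  have hfin := associatedPrimes.finite A N
  obtain ⟨P, hP, hle⟩ : ∃ P ∈ hfin.toFinset, I ≤ P := by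
    refine (Ideal.subset_union_prime (⊥ : Ideal A) (⊥ : Ideal A) (fun P hP _ _ => ?_)).1 ?_
    · exact (hfin.mem_toFinset.1 hP).isPrime
    · simpa using hsub
  obtain ⟨-, x, hx⟩ := isAssociatedPrime_iff.1 (hfin.mem_toFinset.1 hP)
  have hx0 : x = 0 := h x fun a ha => by
    have := hle ha
    rw [hx] at this
    simpa [Submodule.mem_colon_singleton] using this
  subst hx0
  exact (hfin.mem_toFinset.1 hP).isPrime.ne_top ((Ideal.eq_top_iff_one _).2 (by rw [hx]; simp))

end Groth.Agent.Koszul15
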